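import Cfsg.Agent.Lib.PGroup.FourSizes.Tools

/-!
Two class sizes of `p`-regular elements with at least two primes of noncentral `p`-regular elements:
the centralizers of the noncentral primary elements.
-/

set_option autoImplicit false
set_option linter.style.haveILetI false
set_option linter.unusedSectionVars false

namespace CfsgLib.TwoRegular

open Subgroup
open CfsgLib.ThreeCop (IsQ Full vq mem_cent exists_full exists_full' isQ_of_mem isPGroup_zpowers
  mem_normalizer_of_conj commute_conj commute_center sylow_full self_mem_cent)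
open CfsgLib.FourSizes (TwoReg vq_add_index vq_eq_of_index_eq)
open CfsgLib.ClassGraph (cidx)

variable {G : Type*} [Group G] [Finite G] {p n : ℕ}

/-- One class size `n` of noncentral `p`-regular elements, and noncentral elements for two
primes other than `p`. -/
structure Hyp (G : Type*) [Group G] (p n : ℕ) : Prop where
  hp : p.Prime
  hn : 1 < n
  reg : TwoReg G p n
  two : ∀ k : ℕ, ∃ l : ℕ, l.Prime ∧ l ≠ p ∧ l ≠ k ∧ ∃ u : G, IsQ l u ∧ u ∉ center G

/-- An element normalising `C` and a Sylow subgroup of the group. -/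
theorem full_inf {q : ℕ} [hq : Fact q.Prime] (P : Sylow q G) {C : Subgroup G}
    (hPN : (P : Subgroup G) ≤ normalizer (C : Set G)) : Full q ((P : Subgroup G) ⊓ C) C := by
  refine ⟨inf_le_right, P.isPGroup'.to_le inf_le_left, le_antisymm
    (ThreeCop.card_le_of_pGroup (P.isPGroup'.to_le inf_le_left) inf_le_right) ?_⟩
  obtain ⟨R, hR⟩ := exists_full' q C
  obtain ⟨R', hle, hR'⟩ := exists_full hR.pg (hR.le.trans le_normalizer)
  have hPfull : Full q (P : Subgroup G) (normalizer (C : Set G)) :=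
    ⟨hPN, P.isPGroup', le_antisymm (ThreeCop.card_le_of_pGroup P.isPGroup' hPN) (by
      rw [(sylow_full P).card]
      refine Nat.pow_le_pow_right hq.out.pos ?_
      have := vq_add_index q (normalizer (C : Set G))
      omega)⟩
  obtain ⟨c, hc, hcP⟩ := hR'.conj hPfull
  rw [← hR.card, ← card_map_of_injective (K := R) (f := (MulAut.conj c).toMonoidHom) (MulAut.conj c).injective]
  refine card_le_of_le (H := R.map (MulAut.conj c).toMonoidHom) (K := (P : Subgroup G) ⊓ C) ?_
  rintro _ ⟨z, hz, rfl⟩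
  exact ⟨hcP z (hle hz), (mem_normalizer_iff.1 hc z).1 (hR.le hz)⟩

theorem not_dvd_relIndex {q : ℕ} [hq : Fact q.Prime] {R H : Subgroup G} (hR : Full q R H) :
    ¬ q ∣ R.relIndex H := by
  intro hd
  have h1 := relIndex_mul_relIndex ⊥ R H bot_le hR.le
  rw [relIndex_bot_left, relIndex_bot_left, hR.card] at h1
  have h2 : q ^ (vq q H + 1) ∣ Nat.card H := by
    rw [← h1, pow_succ]; exact Nat.mul_dvd_mul_left _ hd
  have := (hq.out.pow_dvd_iff_le_factorization Nat.card_pos.ne').1 h2
  rw [vq] at this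
  omega

variable (h : Hyp G p n)

include h in
theorem Hyp.idx {k : ℕ} (hk : k.Prime) (hkp : k ≠ p) {c : G} (hc : IsQ k c) (hcZ : c ∉ center G) :
    cidx c = n := by
  haveI := Fact.mk hk
  exact h.reg.idx (hc.not_dvd_of_ne h.hp hkp.symm) hcZ

include h in
theorem Hyp.cent_eq_of_ne {k l : ℕ} (hk : k.Prime) (hkp : k ≠ p) (hl : l.Prime) (hlp : l ≠ p)
    (hkl : k ≠ l) {c a : G} (hc : IsQ k c) (ha : IsQ l a) (hcZ : c ∉ center G) (haZ : a ∉ center G)
    (hca : Commute c a) : centralizer ({a} : Set G) = centralizer ({c} : Set G) := by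
  haveI := Fact.mk h.hp
  haveI := Fact.mk hk
  haveI := Fact.mk hl
  exact (h.reg.cent_eq hca (hc.coprime (ha.not_dvd_of_ne hk hkl)) (hc.not_dvd_of_ne h.hp hkp.symm)
    (ha.not_dvd_of_ne h.hp hlp.symm) hcZ haZ).symm

include h in
/-- The centralizer of a noncentral primary `p`-regular element has noncentral `l`-elements for all
relevant primes `l`, with the same centralizer. -/
theorem Hyp.exists_elem {k l : ℕ} (hk : k.Prime) (hkp : k ≠ p) (hl : l.Prime) (hlp : l ≠ p)
    (hex : ∃ u : G, IsQ l u ∧ u ∉ center G) {c : G} (hc : IsQ k c) (hcZ : c ∉ center G) :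
    ∃ v : G, IsQ l v ∧ v ∉ center G ∧
      centralizer ({v} : Set G) = centralizer ({c} : Set G) := by
  by_cases hkl : k = l
  · subst hkl; exact ⟨c, hc, hcZ, rfl⟩
  haveI := Fact.mk hl
  obtain ⟨u, hu, huZ⟩ := hex
  obtain ⟨R, hR⟩ := exists_full' l (centralizer ({c} : Set G))
  obtain ⟨v, hvR, hvZ⟩ : ∃ v ∈ R, v ∉ center G := by
    by_contra hcon
    push Not at hcon
    have hRu : R ≤ centralizer ({u} : Set G) := fun z hz =>
      mem_cent.2 (commute_center (hcon z hz) u).symm
    have hfull : Full l R (centralizer ({u} : Set G)) := ⟨hRu, hR.pg, by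
      rw [hR.card, vq_eq_of_index_eq l ((h.idx hk hkp hc hcZ).trans (h.idx hl hlp hu huZ).symm :
        (centralizer ({c} : Set G)).index = (centralizer ({u} : Set G)).index)]⟩
    exact huZ (hcon u (hfull.mem_of_isQ (self_mem_cent u) hu
      (mem_normalizer_of_conj fun z hz => by rw [ThreeCop.conj_center (hcon z hz)]; exact hz)))
  exact ⟨v, isQ_of_mem hR.pg hvR, hvZ, h.cent_eq_of_ne hk hkp hl hlp hkl hc (isQ_of_mem hR.pg hvR) hcZ hvZ
    (mem_cent.1 (hR.le hvR)).symm⟩

include h in
/-- The noncentral primary `p`-regular elements of `C(c)` have the same centralizer. -/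
theorem Hyp.cent_eq {k l : ℕ} (hk : k.Prime) (hkp : k ≠ p) (hl : l.Prime) (hlp : l ≠ p)
    {c a : G} (hc : IsQ k c) (ha : IsQ l a) (hcZ : c ∉ center G) (haZ : a ∉ center G)
    (hac : a ∈ centralizer ({c} : Set G)) :
    centralizer ({a} : Set G) = centralizer ({c} : Set G) := by
  by_cases hkl : k = l
  · subst hkl
    obtain ⟨j, hj, hjp, hjk, hex⟩ := h.two k
    obtain ⟨v, hv, hvZ, hveq⟩ := h.exists_elem hk hkp hj hjp hex hc hcZ
    rw [← hveq]
    exact h.cent_eq_of_ne hj hjp hk hkp hjk hv ha hvZ haZ (mem_cent.1 (hveq ▸ hac)).symm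
  · exact h.cent_eq_of_ne hk hkp hl hlp hkl hc ha hcZ haZ (mem_cent.1 hac).symm

include h in
theorem Hyp.cent_le {k l : ℕ} (hk : k.Prime) (hkp : k ≠ p) (hl : l.Prime) (hlp : l ≠ p)
    {c a : G} (hc : IsQ k c) (ha : IsQ l a) (hcZ : c ∉ center G)
    (hac : a ∈ centralizer ({c} : Set G)) :
    centralizer ({c} : Set G) ≤ centralizer ({a} : Set G) := by
  by_cases haZ : a ∈ center G
  · exact fun z _ => mem_cent.2 (commute_center haZ z)
  · exact (h.cent_eq hk hkp hl hlp hc ha hcZ haZ hac).ge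

include h in
/-- In `C(c)` the Sylow subgroups for primes other than `p` contain every element of that order. -/
theorem Hyp.mem_full {k l : ℕ} (hk : k.Prime) (hkp : k ≠ p) [hl : Fact l.Prime] (hlp : l ≠ p)
    {c : G} (hc : IsQ k c) (hcZ : c ∉ center G) {A : Subgroup G}
    (hA : Full l A (centralizer ({c} : Set G))) {a : G} (ha : IsQ l a)
    (hac : a ∈ centralizer ({c} : Set G)) : a ∈ A :=
  hA.mem_of_isQ hac ha (mem_normalizer_of_conj fun z hz => by
    rw [(mem_cent.1 (h.cent_le hk hkp hl.out hlp hc (isQ_of_mem hA.pg hz) hcZ (hA.le hz) hac)).eq,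
      mul_inv_cancel_right]
    exact hz)

include h in
theorem Hyp.exists_noncentral {r : ℕ} [hr : Fact r.Prime] (hrn : r ∣ n) :
    ∀ R : Sylow r G, ¬ (R : Subgroup G) ≤ center G := by
  intro R hle
  obtain ⟨l, hl, hlp, -, u, hu, huZ⟩ := h.two 0
  exact R.not_dvd_index ((hrn.trans (h.idx hl hlp hu huZ).symm.dvd).trans
    (index_dvd_of_le (hle.trans (center_le_centralizer _))))

include h in
/-- For a prime `r ≠ p` dividing `n` there is an element `e` of a Sylow `r`-subgroup `R` such
that `R` fixes `e` modulo the center and normalises `C(e)`. -/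
theorem Hyp.exists_special {r : ℕ} [hr : Fact r.Prime] (hrp : r ≠ p) (hrn : r ∣ n) :
    ∃ (R : Sylow r G) (e : G), e ∈ (R : Subgroup G) ∧ e ∉ center G ∧ cidx e = n ∧
      e ^ r ∈ center G ∧ (∀ a ∈ (R : Subgroup G), a * e * a⁻¹ * e⁻¹ ∈ center G) ∧
      (R : Subgroup G) ≤ normalizer (centralizer ({e} : Set G) : Set G) := by
  let R : Sylow r G := default
  obtain ⟨e, heR, heZ, hep, hec⟩ := ThreeCop.exists_special (Q := (R : Subgroup G)) R.isPGroup' le_rfl
    (fun a ha b hb => (R : Subgroup G).mul_mem ((R : Subgroup G).mul_mem ha hb)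
      ((R : Subgroup G).inv_mem ha)) (h.exists_noncentral hrn R)
  refine ⟨R, e, heR, heZ, h.idx hr.out hrp (isQ_of_mem R.isPGroup' heR) heZ, hep, hec, fun a ha =>
    mem_normalizer_of_conj fun c hc => ?_⟩
  have h1 := (ThreeCop.mem_cent_conj a).2 hc
  rwa [(ThreeCop.special_pow hep (hec a ha)).2.2] at h1

include h in
/-- A prime other than `p` dividing `n` divides it only once. -/
theorem Hyp.factorization_eq_one {r : ℕ} [hr : Fact r.Prime] (hrp : r ≠ p) (hrn : r ∣ n) :
    n.factorization r = 1 := by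
  obtain ⟨R, e, heR, heZ, hen, hep, hec, hRN⟩ := h.exists_special hrp hrn
  set C := centralizer ({e} : Set G) with hC
  have he : IsQ r e := isQ_of_mem R.isPGroup' heR
  obtain ⟨q, hq, hqp, hqr, hex⟩ := h.two r
  haveI := Fact.mk hq
  obtain ⟨V, hV⟩ := exists_full' q C
  set T := (R : Subgroup G) ⊓ C with hT
  have hTfull : Full r T C := full_inf R hRN
  have hle : ∀ v ∈ V, C ≤ centralizer ({v} : Set G) := fun v hv =>
    h.cent_le hr.out hrp hq hqp he (isQ_of_mem hV.pg hv) heZ (hV.le hv)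
  have h3 := vq_add_index r C
  rw [show C.index = n from hen] at h3
  have hne : T ≠ (R : Subgroup G) := by
    intro e'
    have h1 := hTfull.card
    rw [e', (sylow_full R).card] at h1
    have h2 := Nat.pow_right_injective hr.out.two_le h1
    have := hr.out.factorization_pos_of_dvd (by have := h.hn; omega : n ≠ 0) hrn
    omega
  have hcard := ThreeCop.card_eq_prime_mul (q := r) (Q := (R : Subgroup G)) (T := T) (V := V)
    R.isPGroup' inf_le_left hne
    (fun a ha t ht => ⟨(R : Subgroup G).mul_mem ((R : Subgroup G).mul_mem ha ht.1)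
      ((R : Subgroup G).inv_mem ha), (mem_normalizer_iff.1 (hRN ha) t).1 ht.2⟩)
    (fun a ha => ⟨(R : Subgroup G).pow_mem ha r, (ThreeCop.special_pow hep (hec a ha)).2.1⟩)
    (fun a ha v hv => h.mem_full hr.out hrp hqp he heZ hV ((isQ_of_mem hV.pg hv).conj a)
      ((mem_normalizer_iff.1 (hRN ha) v).1 (hV.le hv)))
    (fun a ha b hb => mem_cent.1 (hle b hb (hV.le ha)))
    (fun t ht v hv => mem_cent.1 (hle v hv ht.2))
    (fun a ha haT v hv hav => by
      by_contra hvZ
      refine haT ⟨ha, ?_⟩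
      rw [hC, ← h.cent_eq hr.out hrp hq hqp he (isQ_of_mem hV.pg hv) heZ hvZ (hV.le hv)]
      exact mem_cent.2 hav)
    (fun v hv hvp => by
      obtain ⟨k, hk⟩ := exists_pow_eq_self_of_coprime (x := v) (n := r)
        (hr.out.coprime_iff_not_dvd.2 ((isQ_of_mem hV.pg hv).not_dvd_of_ne hr.out hqr.symm))
      rw [← hk]; exact pow_mem hvp k)
    (by
      obtain ⟨v, hv, hvZ, hveq⟩ := h.exists_elem hr.out hrp hq hqp hex he heZ
      exact ⟨v, h.mem_full hr.out hrp hqp he heZ hV hv (by rw [← hveq]; exact self_mem_cent v), hvZ⟩)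
  rw [(sylow_full R).card, hTfull.card, ← pow_succ'] at hcard
  have h2 := Nat.pow_right_injective hr.out.two_le hcard
  omega

include h in
/-- Each Sylow structure at a prime `r ≠ p` dividing `n` lies in the normalizer of `C(c)`. -/
theorem Hyp.exists_sylow {r : ℕ} [hr : Fact r.Prime] (hrp : r ≠ p) (hrn : r ∣ n) {k : ℕ}
    (hk : k.Prime) (hkp : k ≠ p) {c : G} (hc : IsQ k c) (hcZ : c ∉ center G) :
    ∃ R : Sylow r G, (R : Subgroup G) ≤ normalizer (centralizer ({c} : Set G) : Set G) := by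
  set W := centralizer ({c} : Set G) with hW
  have hWn : W.index = n := h.idx hk hkp hc hcZ
  obtain ⟨A, hA⟩ := exists_full' r W
  obtain ⟨S, hS⟩ := hA.pg.exists_le_sylow
  have hcard : Nat.card (S : Subgroup G) = r * Nat.card A := by
    rw [(sylow_full S).card, hA.card, ← pow_succ']
    congr 1
    have h1 := vq_add_index r W
    rw [hWn, h.factorization_eq_one hrp hrn] at h1
    omega
  have hn : (A.subgroupOf (S : Subgroup G)).Normal := by
    refine normal_of_index_eq_minFac_card ?_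
    have h1 := (A.subgroupOf (S : Subgroup G)).card_mul_index
    rw [Nat.card_congr (subgroupOfEquivOfLe hS).toEquiv, hcard, mul_comm r] at h1
    rw [Nat.eq_of_mul_eq_mul_left Nat.card_pos h1]
    obtain ⟨i, hi⟩ := IsPGroup.iff_card.1 S.isPGroup'
    rw [hi, hr.out.pow_minFac]
    intro h0
    rw [hi, h0, pow_zero] at hcard
    exact hr.out.not_dvd_one ⟨_, hcard⟩
  obtain ⟨R₀, hR₀⟩ : ∃ R₀ : Sylow r G, True := ⟨default, trivial⟩
  obtain ⟨g, hg, hgZ⟩ := SetLike.not_le_iff_exists.1 (h.exists_noncentral hrn R₀)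
  obtain ⟨v, hv, hvZ, hveq⟩ := h.exists_elem hk hkp hr.out hrp
    ⟨g, isQ_of_mem R₀.isPGroup' hg, hgZ⟩ hc hcZ
  have hvA : v ∈ A := h.mem_full hk hkp hrp hc hcZ hA hv (hveq ▸ self_mem_cent v)
  refine ⟨S, fun a ha => mem_normalizer_of_conj fun w hw => ?_⟩
  have hmem : a * v * a⁻¹ ∈ A := hn.conj_mem ⟨v, hS hvA⟩ hvA ⟨a, ha⟩
  rw [hW, ← h.cent_eq hk hkp hr.out hrp hc (hv.conj a) hcZ (ThreeCop.not_center_conj hvZ a) (hA.le hmem)]
  exact (ThreeCop.mem_cent_conj a).2 (hveq.symm ▸ hw)

end CfsgLib.TwoRegular
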