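import Cfsg.Agent.Lib.PGroup.TwoRegular.OnePrime
import Mathlib.GroupTheory.SchurZassenhaus

/-!
Two class sizes of `p`-regular elements: the case of one noncentral prime.
-/

set_option autoImplicit false
set_option linter.style.haveILetI false
set_option linter.unusedSectionVars false

namespace CfsgLib.TwoRegular

open Subgroup
open CfsgLib.ThreeCop (IsQ isQ_of_mem mem_cent commute_center isPGroup_zpowers)

variable {G : Type*} [Group G] [Finite G]

/-- If the elements of prime power order for primes other than `p` and `q` are central then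
`G = P Q × A` with `A` central. -/
theorem exists_decomp {p q : ℕ} [hp : Fact p.Prime] [hq : Fact q.Prime] (hqp : q ≠ p)
    (h : ∀ k : ℕ, k.Prime → k ≠ p → k ≠ q → ∀ u : G, IsQ k u → u ∈ center G)
    (P : Sylow p G) (Q : Sylow q G) :
    ∃ A : Subgroup G, A ≤ center G ∧
      Nat.card ↥((P : Subgroup G) ⊔ (Q : Subgroup G)) = Nat.card P * Nat.card Q ∧
      ((P : Subgroup G) ⊔ (Q : Subgroup G)).Normal ∧
      ((P : Subgroup G) ⊔ (Q : Subgroup G)) ⊓ A = ⊥ ∧ ((P : Subgroup G) ⊔ (Q : Subgroup G)) ⊔ A = ⊤ := by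
  let A : Subgroup G :=
    { carrier := {z | z ∈ center G ∧ (orderOf z).Coprime (p * q)}
      mul_mem' := fun {a b} ⟨ha, ha'⟩ ⟨hb, hb'⟩ => ⟨(center G).mul_mem ha hb,
        Nat.Coprime.coprime_dvd_left (commute_center hb a).orderOf_mul_dvd_mul_orderOf (ha'.mul_left hb')⟩
      one_mem' := ⟨(center G).one_mem, by rw [orderOf_one]; exact Nat.coprime_one_left _⟩
      inv_mem' := fun {a} ⟨ha, ha'⟩ => ⟨(center G).inv_mem ha, by rwa [orderOf_inv]⟩ }
  have hAc : A ≤ center G := fun a ha => ha.1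
  haveI : A.Normal := ⟨fun a ha g => by rw [ThreeCop.conj_center ha.1]; exact ha⟩
  have hAp : ∀ k : ℕ, k.Prime → k ∣ Nat.card A → k ≠ p ∧ k ≠ q := by
    intro k hk hkA
    haveI := Fact.mk hk
    obtain ⟨a, ha⟩ := exists_prime_orderOf_dvd_card' k hkA
    have h1 : k.Coprime (p * q) := by
      rw [← ha, ← orderOf_coe]; exact a.2.2
    exact ⟨fun e => hk.not_dvd_one (h1 ▸ Nat.dvd_gcd dvd_rfl (e ▸ dvd_mul_right p q)),
      fun e => hk.not_dvd_one (h1 ▸ Nat.dvd_gcd dvd_rfl (e ▸ dvd_mul_left q p))⟩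
  have hsylA : ∀ k : ℕ, k.Prime → k ≠ p → k ≠ q → ∀ a : G, IsQ k a → a ∈ A := by
    intro k hk hkp hkq a ha
    haveI := Fact.mk hk
    refine ⟨h k hk hkp hkq a ha, ?_⟩
    exact Nat.Coprime.mul_right ((hp.out.coprime_iff_not_dvd.2 (ha.not_dvd_of_ne hp.out hkp.symm)).symm)
      ((hq.out.coprime_iff_not_dvd.2 (ha.not_dvd_of_ne hq.out hkq.symm)).symm)
  have hco : (Nat.card A).Coprime A.index := Nat.coprime_of_dvd fun k hk h1 h2 => by
    obtain ⟨hkp, hkq⟩ := hAp k hk h1
    haveI := Fact.mk hk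
    let S : Sylow k G := default
    exact S.not_dvd_index (h2.trans (index_dvd_of_le fun a ha =>
      hsylA k hk hkp hkq a (isQ_of_mem S.isPGroup' ha)))
  obtain ⟨K, hK⟩ := exists_right_complement'_of_coprime hco
  have hKA : ∀ g : G, ∃ a ∈ A, ∃ k ∈ K, g = a * k := fun g => by
    obtain ⟨⟨a, k⟩, hak⟩ := hK.2 g
    exact ⟨a, a.2, k, k.2, hak.symm⟩
  haveI hKn : K.Normal := ⟨fun y hy g => by
    obtain ⟨a, ha, k, hk, rfl⟩ := hKA g
    rw [show a * k * y * (a * k)⁻¹ = a * (k * y * k⁻¹) * a⁻¹ by group,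
      ← (commute_center ha.1 (k * y * k⁻¹)).eq, mul_inv_cancel_right]
    exact mul_mem (mul_mem hk hy) (inv_mem hk)⟩
  have hKi : K.index = Nat.card A := hK.index_eq_card
  have hle : ∀ {s : ℕ} [Fact s.Prime], ¬ s ∣ Nat.card A → ∀ S : Sylow s G, (S : Subgroup G) ≤ K := by
    intro s hs hsA S a ha
    refine (QuotientGroup.eq_one_iff a).1 (show QuotientGroup.mk' K a = 1 from ?_)
    obtain ⟨u, hu⟩ := isQ_of_mem S.isPGroup' ha
    exact (show IsQ s (QuotientGroup.mk' K a) from ⟨u, by rw [← map_pow, hu, map_one]⟩).eq_one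
      fun hd => hsA (hKi ▸ hd.trans (by rw [index_eq_card]; exact orderOf_dvd_natCard _))
  have hPK : (P : Subgroup G) ⊔ (Q : Subgroup G) ≤ K :=
    sup_le (hle (fun hd => (hAp p hp.out hd).1 rfl) P) (hle (fun hd => (hAp q hq.out hd).2 rfl) Q)
  have hcop : (Nat.card (P : Subgroup G)).Coprime (Nat.card (Q : Subgroup G)) := by
    rw [P.card_eq_multiplicity, Q.card_eq_multiplicity]
    exact Nat.Coprime.pow _ _ ((Nat.coprime_primes hp.out hq.out).2 hqp.symm)
  have hdvd : Nat.card (P : Subgroup G) * Nat.card (Q : Subgroup G) ∣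
      Nat.card ↥((P : Subgroup G) ⊔ (Q : Subgroup G)) :=
    hcop.mul_dvd_of_dvd_of_dvd (card_dvd_of_le le_sup_left) (card_dvd_of_le le_sup_right)
  have hKcard : Nat.card K ∣ Nat.card (P : Subgroup G) * Nat.card (Q : Subgroup G) := by
    refine (Nat.factorization_le_iff_dvd Nat.card_pos.ne' (mul_pos Nat.card_pos Nat.card_pos).ne').1 fun k => ?_
    by_cases hk : k.Prime
    · haveI := Fact.mk hk
      rw [P.card_eq_multiplicity, Q.card_eq_multiplicity, Nat.factorization_mul (pow_pos hp.out.pos _).ne'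
        (pow_pos hq.out.pos _).ne', Finsupp.add_apply, hp.out.factorization_pow, hq.out.factorization_pow]
      have hG := (Nat.factorization_le_iff_dvd Nat.card_pos.ne' Nat.card_pos.ne').2 K.card_subgroup_dvd_card k
      by_cases hkp : k = p
      · subst hkp; rw [Finsupp.single_eq_same]; omega
      by_cases hkq : k = q
      · subst hkq; rw [Finsupp.single_eq_same]; omega
      rw [Nat.factorization_eq_zero_of_not_dvd (fun hd => ?_)]
      · exact Nat.zero_le _
      obtain ⟨u, hu⟩ := exists_prime_orderOf_dvd_card' k hd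
      have hu' : IsQ k (u : G) := ⟨1, by
        rw [pow_one, ← SubgroupClass.coe_pow, ← hu, pow_orderOf_eq_one]; rfl⟩
      have h1 : (u : G) ∈ A ⊓ K := ⟨hsylA k hk hkp hkq _ hu', u.2⟩
      rw [hK.disjoint.eq_bot, mem_bot] at h1
      rw [← orderOf_coe, h1, orderOf_one] at hu
      exact hk.ne_one hu.symm
    · rw [Nat.factorization_eq_zero_of_not_prime _ hk]; exact Nat.zero_le _
  have heq : (P : Subgroup G) ⊔ (Q : Subgroup G) = K := eq_of_le_of_card_ge hPK
    ((Nat.le_of_dvd (mul_pos Nat.card_pos Nat.card_pos) hKcard).trans (Nat.le_of_dvd Nat.card_pos hdvd))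
  refine ⟨A, hAc, Nat.dvd_antisymm ((card_dvd_of_le hPK).trans hKcard) hdvd, heq ▸ hKn, ?_, ?_⟩
  · rw [heq, inf_comm]; exact hK.disjoint.eq_bot
  · rw [heq, sup_comm]; exact hK.sup_eq_top

end CfsgLib.TwoRegular
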