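import Cfsg.Agent.Lib.PGroup.TwoRegular.TwoPrimes
import Cfsg.Agent.Lib.PGroup.Kazarin

/-!
Two class sizes of `p`-regular elements: if two primes other than `p` have noncentral elements then
`n` is a power of `p`.
-/

set_option autoImplicit false
set_option linter.style.haveILetI false
set_option linter.unusedSectionVars false

namespace CfsgLib.TwoRegular

open Subgroup
open CfsgLib.ThreeCop (IsQ Full vq mem_cent exists_full exists_full' isQ_of_mem isPGroup_zpowers
  mem_normalizer_of_conj commute_conj commute_center sylow_full self_mem_cent)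
open CfsgLib.ClassGraph (cidx)

variable {G : Type*} [Group G] [Finite G] {p n : ℕ} (h : Hyp G p n)

include h in
/-- Every prime divisor of `n` is `p`. -/
theorem Hyp.eq_p {r : ℕ} (hr : r.Prime) (hrn : r ∣ n) : r = p := by
  classical
  by_contra hrp
  haveI := Fact.mk hr
  haveI hpF := Fact.mk h.hp
  obtain ⟨q, hq, hqp, hqr, uq, huq, huqZ⟩ := h.two r
  haveI := Fact.mk hq
  have hqn : ¬ q ∣ n := fun hd => hqr (h.prime_eq hq hr hqp hrp hd hrn)
  obtain ⟨R, e, heR, heZ, hen, -, hec, hRN⟩ := h.exists_special hrp hrn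
  have her : IsQ r e := isQ_of_mem R.isPGroup' heR
  set W := centralizer ({e} : Set G) with hW
  -- the class of `e` modulo the center has `p`-power size
  set πZ := QuotientGroup.mk' (center G) with hπZ
  set L := (centralizer ({πZ e} : Set (G ⧸ center G))).comap πZ with hL
  have hWL : W ≤ L := fun w hw => by
    rw [hL, mem_comap, mem_centralizer_singleton_iff, ← map_mul, ← map_mul, (mem_cent.1 hw).eq]
  have hRL : (R : Subgroup G) ≤ L := fun a ha => by
    have h1 : πZ (a * e * a⁻¹ * e⁻¹) = 1 := (QuotientGroup.eq_one_iff _).2 (hec a ha)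
    rw [map_mul, map_mul, map_mul, map_inv, map_inv, mul_inv_eq_one, mul_inv_eq_iff_eq_mul] at h1
    exact mem_centralizer_singleton_iff.2 h1
  have hLn : L.index ∣ n := hen ▸ index_dvd_of_le hWL
  obtain ⟨b, hb⟩ : ∃ b, (centralizer ({πZ e} : Set (G ⧸ center G))).index = p ^ b := by
    rw [← index_comap_of_surjective _ (QuotientGroup.mk'_surjective (center G)), ← hL]
    refine ⟨_, Nat.eq_prime_pow_of_unique_prime_dvd index_ne_zero_of_finite fun {k} hk hkd => ?_⟩
    by_contra hkp
    obtain rfl := h.prime_eq hk hr hkp hrp (hkd.trans hLn) hrn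
    exact R.not_dvd_index (hkd.trans (index_dvd_of_le hRL))
  -- the preimage `T` of `O_p` of the central quotient
  haveI := Coprime.pCore_normal' (G := G ⧸ center G) p
  set T := (Cfsg.pCore p (G ⧸ center G)).comap πZ with hT
  haveI hTn : T.Normal := Normal.comap inferInstance _
  have hTQ : ∀ (k : ℕ), k.Prime → k ≠ p → ∀ y ∈ T, IsQ k y → y ∈ center G := by
    intro k hk hkp y hy hyk
    haveI := Fact.mk hk
    refine (QuotientGroup.eq_one_iff y).1 (show πZ y = 1 from ?_)
    obtain ⟨u, hu⟩ := hyk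
    have h1 : IsQ k (πZ y) := ⟨u, by rw [← map_pow, hu, map_one]⟩
    exact h1.eq_one ((isQ_of_mem (Coprime.pCore_isPGroup p) hy).not_dvd_of_ne hk hkp)
  have hcommT : ∀ g k : G,
      (g * e * g⁻¹) * (k * e * k⁻¹) * (g * e * g⁻¹)⁻¹ * (k * e * k⁻¹)⁻¹ ∈ T := fun g k => by
    have h1 := PGroup.commutator_conj_mem_pCore hb (πZ g) (πZ k)
    rw [hT, mem_comap]
    simpa only [map_mul, map_inv] using h1
  -- the normal subgroup `K` generated by `T` and the conjugates of `e`
  set πT := QuotientGroup.mk' T with hπT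
  set Kb := closure {z : G ⧸ T | ∃ g : G, z = πT (g * e * g⁻¹)} with hKb
  haveI hKbn : Kb.Normal := ClassGraph.normal_of_gens (by
    rintro z ⟨g, rfl⟩ u
    obtain ⟨u, rfl⟩ := QuotientGroup.mk'_surjective T u
    exact ⟨u * g, by rw [← map_inv, ← map_mul, ← map_mul]; congr 1; group⟩)
  have hKc : ∀ u ∈ Kb, ∀ v ∈ Kb, Commute u v := by
    have hle : Kb ≤ centralizer (Kb : Set (G ⧸ T)) := by
      conv_lhs => rw [hKb]
      rw [closure_le]
      rintro _ ⟨g, rfl⟩
      refine mem_centralizer_iff.2 fun w hw => ?_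
      have hle' : Kb ≤ centralizer ({πT (g * e * g⁻¹)} : Set (G ⧸ T)) := by
        rw [hKb, closure_le]
        rintro _ ⟨k, rfl⟩
        have h1 : πT ((k * e * k⁻¹) * (g * e * g⁻¹) * (k * e * k⁻¹)⁻¹ * (g * e * g⁻¹)⁻¹) = 1 :=
          (QuotientGroup.eq_one_iff _).2 (hcommT k g)
        rw [map_mul, map_mul πT _ (k * e * k⁻¹)⁻¹, map_inv, map_inv, mul_inv_eq_one,
          mul_inv_eq_iff_eq_mul, map_mul πT (k * e * k⁻¹)] at h1
        exact mem_centralizer_singleton_iff.2 h1
      exact mem_centralizer_singleton_iff.1 (hle' hw)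
    exact fun u hu v hv => (mem_centralizer_iff.1 (hle hu) v hv).symm
  have hKr : IsPGroup r Kb := by
    intro z
    obtain ⟨z, hz⟩ := z
    obtain ⟨d, hd⟩ := her
    refine ⟨d, Subtype.ext ?_⟩
    show z ^ r ^ d = 1
    induction hz using Subgroup.closure_induction with
    | mem t ht =>
      obtain ⟨g, rfl⟩ := ht
      rw [← map_pow, conj_pow, hd, mul_one, mul_inv_cancel, map_one]
    | one => exact one_pow _
    | mul u v hu hv iu iv => rw [(hKc u hu v hv).mul_pow, iu, iv, one_mul]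
    | inv u _ iu => rw [inv_pow, iu, inv_one]
  set K := Kb.comap πT with hK
  haveI hKn : K.Normal := Normal.comap hKbn _
  have hTK : T ≤ K := fun y hy => by
    rw [hK, mem_comap, show πT y = 1 from (QuotientGroup.eq_one_iff y).2 hy]; exact Kb.one_mem
  have heK : e ∈ K := subset_closure ⟨1, by simp [hπT]⟩
  have hKQ : ∀ y ∈ K, IsQ q y → y ∈ center G := by
    intro y hy hyq
    refine hTQ q hq hqp y ((QuotientGroup.eq_one_iff y).1 (show πT y = 1 from ?_)) hyq
    obtain ⟨u, hu⟩ := hyq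
    have h1 : IsQ q (πT y) := ⟨u, by rw [← map_pow, hu, map_one]⟩
    exact h1.eq_one ((isQ_of_mem hKr hy).not_dvd_of_ne hq hqr)
  -- a noncentral `q`-element `x` with `C(x) = W`
  obtain ⟨x, hx, hxZ, hxeq⟩ := h.exists_elem hr hrp hq hqp ⟨uq, huq, huqZ⟩ her heZ
  have hxW : x ∈ centralizer ({e} : Set G) := hxeq ▸ self_mem_cent x
  set RK := (R : Subgroup G) ⊓ K with hRKdef
  have hRK : Full r RK K := full_inf R (by rw [normalizer_eq_top]; exact le_top)
  have hRKW : RK ≤ W := by
    intro y hy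
    have hyq : IsQ q (y * x * y⁻¹ * x⁻¹) := by
      have hmem : y * x * y⁻¹ ∈ W := (mem_normalizer_iff.1 (hRN hy.1) x).1 hxW
      have hc : Commute (y * x * y⁻¹) x⁻¹ := (mem_cent.1 (hxeq.symm ▸ hmem)).inv_right
      obtain ⟨u, hu⟩ := hx
      exact ⟨u, by rw [hc.mul_pow, conj_pow, inv_pow, hu, mul_one, mul_inv_cancel, inv_one, one_mul]⟩
    have hzZ : y * x * y⁻¹ * x⁻¹ ∈ center G := hKQ _ (by
      rw [mul_assoc, mul_assoc, ← mul_assoc x]
      exact K.mul_mem hy.2 (hKn.conj_mem _ (K.inv_mem hy.2) x)) hyq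
    obtain ⟨u, hu⟩ := isQ_of_mem R.isPGroup' hy.1
    have hye : y * x * y⁻¹ = (y * x * y⁻¹ * x⁻¹) * x := by group
    have h1 := ThreeCop.conj_pow_center hzZ hye (r ^ u)
    rw [hu, one_mul, inv_one, mul_one, right_eq_mul] at h1
    have h2 : y * x * y⁻¹ * x⁻¹ = 1 := hyq.eq_one_of_pow h1 fun hd =>
      hqr ((Nat.prime_dvd_prime_iff_eq hq hr).1 (hq.dvd_of_dvd_pow hd))
    rw [hW, ← hxeq]
    exact mem_cent.2 (mul_inv_eq_iff_eq_mul.1 (mul_inv_eq_one.1 h2))
  set N := normalizer (W : Set G) with hN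
  -- `G = T N`
  have hKTN : K ≤ T ⊔ N := by
    refine le_trans ?_ (sup_le_sup le_rfl ((hRKW.trans le_normalizer) : RK ≤ N))
    rw [← relIndex_eq_one]
    by_contra hne
    obtain ⟨k, hk, hkd⟩ := Nat.exists_prime_and_dvd hne
    by_cases hkr : k = r
    · subst hkr
      exact not_dvd_relIndex hRK (hkd.trans (relIndex_dvd_of_le_left K le_sup_right))
    · have h1 := hkd.trans (relIndex_dvd_of_le_left K (le_sup_left : T ≤ T ⊔ RK))
      have h2 : T.relIndex K ∣ Nat.card Kb := by
        have e1 : T.relIndex K = (πT.comp K.subtype).ker.index := by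
          rw [relIndex]; congr 1
          ext y
          rw [mem_subgroupOf, MonoidHom.mem_ker]
          exact (QuotientGroup.eq_one_iff (y : G)).symm
        rw [e1, index_ker]
        refine card_dvd_of_le ?_
        rintro _ ⟨y, rfl⟩
        exact y.2
      obtain ⟨j, hj⟩ := IsPGroup.iff_card.1 hKr
      exact hkr ((Nat.prime_dvd_prime_iff_eq hk hr).1 (hk.dvd_of_dvd_pow (hj ▸ h1.trans h2)))
  have htop : ∀ g : G, ∃ t ∈ T, ∃ v ∈ N, g = t * v := by
    intro g
    have hg : g ∈ T ⊔ N := by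
      set RK' := RK.map (MulAut.conj g).toMonoidHom with hRK'
      have hfull : Full r RK' K := by
        refine ⟨?_, hRK.pg.map _, ?_⟩
        · rintro _ ⟨y, hy, rfl⟩
          exact hKn.conj_mem _ hy.2 g
        · rw [card_map_of_injective (f := (MulAut.conj g).toMonoidHom) (MulAut.conj g).injective]
          exact hRK.card
      obtain ⟨c, hc, hcc⟩ := hfull.conj hRK
      have hv : c * g ∈ N := by
        have hmem : c * (g * e * g⁻¹) * c⁻¹ ∈ RK := hcc _ ⟨e, ⟨heR, heK⟩, rfl⟩
        refine mem_normalizer_of_conj fun w hw => ?_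
        have heq := h.cent_eq hr hrp hr hrp her (her.conj (c * g)) heZ
          (ThreeCop.not_center_conj heZ _) (hRKW (by
            rw [show c * g * e * (c * g)⁻¹ = c * (g * e * g⁻¹) * c⁻¹ by group]; exact hmem))
        rw [hW, ← heq]
        exact (ThreeCop.mem_cent_conj (c * g)).2 hw
      rw [show g = c⁻¹ * (c * g) by group]
      exact mul_mem (inv_mem (hKTN hc)) ((le_sup_right : N ≤ T ⊔ N) hv)
    obtain ⟨t, ht, v, hv, htv⟩ := Subgroup.mem_sup_of_normal_left.1 hg
    exact ⟨t, ht, v, hv, htv.symm⟩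
  -- an element of `R` outside `W` would fuse into `W`
  have hSW : ¬ (R : Subgroup G) ≤ W := fun hle =>
    R.not_dvd_index ((hrn.trans hen.symm.dvd).trans (index_dvd_of_le hle))
  obtain ⟨a, haR, haW⟩ := SetLike.not_le_iff_exists.1 hSW
  have har : IsQ r a := isQ_of_mem R.isPGroup' haR
  have haZ : a ∉ center G := fun hz => haW (center_le_centralizer _ hz)
  obtain ⟨c, hc⟩ := FourSizes.exists_conj_commute (q := q) (b := a) (by rw [h.idx hr hrp har haZ]; exact hqn) hx
  have hmem : c⁻¹ * a * c ∈ W := by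
    rw [hW, ← hxeq]; exact FourSizes.mem_cent_conj_inv hc.symm
  obtain ⟨t, ht, v, hv, htv⟩ := htop c⁻¹
  set a' := v * a * v⁻¹ with ha'
  have ha'N : a' ∈ N := mul_mem (mul_mem hv (hRN haR)) (inv_mem hv)
  have ha'W : a' ∉ W := fun hh => haW ((mem_normalizer_iff.1 hv a).2 hh)
  set a'' := t * a' * t⁻¹ with ha''
  have ha''W : a'' ∈ W := by
    rw [ha'', ha']
    rw [show c⁻¹ * a * c = c⁻¹ * a * (c⁻¹)⁻¹ by rw [inv_inv], htv] at hmem
    convert hmem using 1
    group
  obtain ⟨A, hA⟩ := exists_full' r W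
  have ha''A : a'' ∈ A := h.mem_full hr hrp hrp her heZ hA ((har.conj v).conj t) ha''W
  have hsup : IsPGroup r ↥(zpowers a' ⊔ A) := ThreeCop.isPGroup_sup_zpowers hA.pg (har.conj v)
    (mem_normalizer_of_conj fun y hy => h.mem_full hr hrp hrp her heZ hA ((isQ_of_mem hA.pg hy).conj a')
      ((mem_normalizer_iff.1 ha'N y).1 (hA.le hy)))
  have hz : a'' * a'⁻¹ ∈ center G := by
    refine hTQ r hr hrp _ ?_ (isQ_of_mem hsup (mul_mem (mem_sup_right ha''A)
      (inv_mem (mem_sup_left (mem_zpowers a')))))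
    rw [ha'', show t * a' * t⁻¹ * a'⁻¹ = t * (a' * t⁻¹ * a'⁻¹) by group]
    exact T.mul_mem ht (hTn.conj_mem _ (T.inv_mem ht) a')
  refine ha'W ?_
  rw [show a' = (a'' * a'⁻¹)⁻¹ * a'' by group]
  exact W.mul_mem (W.inv_mem (center_le_centralizer _ hz)) ha''W

end CfsgLib.TwoRegular
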