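import Cfsg.Agent.Lib.PGroup.TwoRegular.Basic
import Cfsg.Agent.Lib.Coprime.Fitting
import Cfsg.Agent.Lib.FT.NoMinSimple

/-!
Two class sizes of `p`-regular elements: only one prime other than `p` divides `n`.
-/

set_option autoImplicit false
set_option linter.style.haveILetI false
set_option linter.unusedSectionVars false

namespace CfsgLib.TwoRegular

open Subgroup
open CfsgLib.ThreeCop (IsQ Full vq mem_cent exists_full exists_full' isQ_of_mem isPGroup_zpowers
  mem_normalizer_of_conj commute_conj commute_center sylow_full self_mem_cent)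
open CfsgLib.ClassGraph (cidx)

variable {G : Type*} [Group G] [Finite G] {p n : ℕ} (h : Hyp G p n)

include h in
/-- An overgroup of `W = C(c)` in its normalizer, normalised by a Sylow `r`-subgroup outside `W`,
contains an `r`-element outside `W`. -/
theorem Hyp.false_of_overgroup {r : ℕ} [hr : Fact r.Prime] (hrp : r ≠ p) (hrn : r ∣ n) {k : ℕ}
    (hk : k.Prime) (hkp : k ≠ p) {c : G} (hc : IsQ k c) (hcZ : c ∉ center G) (R : Sylow r G)
    (hRN : (R : Subgroup G) ≤ normalizer (centralizer ({c} : Set G) : Set G)) {K : Subgroup G}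
    (hWK : centralizer ({c} : Set G) ≤ K)
    (hKN : K ≤ normalizer (centralizer ({c} : Set G) : Set G)) (hKW : ¬ K ≤ centralizer ({c} : Set G))
    (hRK : ∀ a ∈ (R : Subgroup G), ∀ y ∈ K, a * y * a⁻¹ ∈ K)
    (hKr : ∀ y ∈ K, IsQ r y → y ∈ centralizer ({c} : Set G)) : False := by
  classical
  set W := centralizer ({c} : Set G) with hW
  have hWn : W.index = n := h.idx hk hkp hc hcZ
  obtain ⟨A, hA⟩ := exists_full' r W
  have hAn : ∀ g ∈ normalizer (W : Set G), ∀ a ∈ A, g * a * g⁻¹ ∈ A := fun g hg a ha =>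
    h.mem_full hk hkp hrp hc hcZ hA ((isQ_of_mem hA.pg ha).conj g) ((mem_normalizer_iff.1 hg a).1 (hA.le ha))
  have hAR : A ≤ R := by
    have hsup : IsPGroup r ↥((R : Subgroup G) ⊔ A) := IsPGroup.to_sup_of_normal_right' R.isPGroup' hA.pg
      fun g hg => mem_normalizer_of_conj fun a ha => hAn g (hRN hg) a ha
    exact le_sup_right.trans (le_of_eq ((sylow_full R).eq_of_le le_sup_left hsup le_top))
  have hAZ : ¬ A ≤ center G := fun hle => by
    obtain ⟨g, hg, hgZ⟩ := SetLike.not_le_iff_exists.1 (h.exists_noncentral hrn R)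
    obtain ⟨v, hv, hvZ, hveq⟩ := h.exists_elem hk hkp hr.out hrp ⟨g, isQ_of_mem R.isPGroup' hg, hgZ⟩ hc hcZ
    exact hvZ (hle (h.mem_full hk hkp hrp hc hcZ hA hv (hveq ▸ self_mem_cent v)))
  obtain ⟨e, heA, heZ, -, hec⟩ := ThreeCop.exists_special (Q := (R : Subgroup G)) R.isPGroup' hAR
    (fun g hg a ha => hAn g (hRN hg) a ha) hAZ
  have heC : centralizer ({e} : Set G) = W :=
    h.cent_eq hk hkp hr.out hrp hc (isQ_of_mem hA.pg heA) hcZ heZ (hA.le heA)
  have hSW : ¬ (R : Subgroup G) ≤ W := fun hle =>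
    R.not_dvd_index ((hWn.symm ▸ hrn : r ∣ W.index).trans (index_dvd_of_le hle))
  obtain ⟨a, haR, haW⟩ := SetLike.not_le_iff_exists.1 hSW
  haveI : (W.subgroupOf K).Normal := (normal_subgroupOf_iff_le_normalizer hWK).2 hKN
  have hAc : ∀ u ∈ A, ∀ v ∈ A, Commute u v := fun u hu v hv =>
    mem_cent.1 (h.cent_le hk hkp hr.out hrp hc (isQ_of_mem hA.pg hv) hcZ (hA.le hv) (hA.le hu))
  letI : CommGroup A := { A.toGroup with mul_comm := fun u v => Subtype.ext (hAc u.1 u.2 v.1 v.2) }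
  haveI := Fintype.ofFinite (K ⧸ W.subgroupOf K)
  let f : K ⧸ W.subgroupOf K → A := fun q =>
    Quotient.liftOn' q (fun u => (⟨(u : G) * e * (u : G)⁻¹, hAn u (hKN u.2) e heA⟩ : A)) fun u l hul => by
      rw [QuotientGroup.leftRel_apply, mem_subgroupOf, ← heC, mem_cent] at hul
      refine Subtype.ext ?_
      have h1 : (u : G)⁻¹ * (l : G) * e = e * ((u : G)⁻¹ * (l : G)) := hul.eq
      show (u : G) * e * (u : G)⁻¹ = (l : G) * e * (l : G)⁻¹
      rw [eq_mul_inv_iff_mul_eq]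
      calc (u : G) * e * (u : G)⁻¹ * (l : G) = (u : G) * (e * ((u : G)⁻¹ * (l : G))) := by group
        _ = _ := by rw [← h1]; group
  set π : A := ∏ q, f q with hπ
  let conjHom : (g : G) → g ∈ normalizer (W : Set G) → (A →* A) := fun g hg =>
    { toFun := fun u => ⟨g * u * g⁻¹, hAn g hg u u.2⟩
      map_one' := Subtype.ext (by simp)
      map_mul' := fun u v => Subtype.ext (show g * ((u : G) * v) * g⁻¹ = g * u * g⁻¹ * (g * v * g⁻¹) by
        group) }
  have hπK : K ≤ centralizer ({(π : G)} : Set G) := by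
    intro u hu
    refine mem_cent.2 (mul_inv_eq_iff_eq_mul.1 ?_)
    suffices conjHom u (hKN hu) π = π from congrArg Subtype.val this
    rw [hπ, map_prod]
    refine Fintype.prod_equiv (MulAction.toPerm (⟨u, hu⟩ : K)) _ _ fun q => ?_
    induction q using Quotient.inductionOn' with
    | h l => exact Subtype.ext (show u * ((l : G) * e * (l : G)⁻¹) * u⁻¹ =
        u * (l : G) * e * (u * (l : G))⁻¹ by group)
  have hπZ : (π : G) ∈ center G := by
    by_contra hZ
    exact hKW (hπK.trans (h.cent_eq hk hkp hr.out hrp hc (isQ_of_mem hA.pg π.2) hcZ hZ (hA.le π.2)).le)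
  obtain ⟨z, hz⟩ : ∃ z, z = a * e * a⁻¹ * e⁻¹ := ⟨_, rfl⟩
  have hzZ : z ∈ center G := hz ▸ hec a haR
  have hzA : z ∈ A := hz ▸ A.mul_mem (hAn a (hRN haR) e heA) (A.inv_mem heA)
  have hinv : ∀ u : K, a⁻¹ * (u : G) * a ∈ K := fun u => by
    simpa using hRK a⁻¹ (inv_mem haR) u u.2
  let σ : K ≃ K :=
    { toFun := fun u => ⟨a * u * a⁻¹, hRK a haR u u.2⟩
      invFun := fun u => ⟨a⁻¹ * u * a, hinv u⟩
      left_inv := fun u => Subtype.ext (show a⁻¹ * (a * (u : G) * a⁻¹) * a = u by group)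
      right_inv := fun u => Subtype.ext (show a * (a⁻¹ * (u : G) * a) * a⁻¹ = u by group) }
  let τ : K ⧸ W.subgroupOf K ≃ K ⧸ W.subgroupOf K := Quotient.congr σ fun u l => by
    rw [QuotientGroup.leftRel_apply, QuotientGroup.leftRel_apply, mem_subgroupOf, mem_subgroupOf]
    show (u : G)⁻¹ * (l : G) ∈ W ↔ (a * (u : G) * a⁻¹)⁻¹ * (a * (l : G) * a⁻¹) ∈ W
    rw [show (a * (u : G) * a⁻¹)⁻¹ * (a * (l : G) * a⁻¹) = a * ((u : G)⁻¹ * (l : G)) * a⁻¹ by group]
    exact mem_normalizer_iff.1 (hRN haR) _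
  have hfix : conjHom a (hRN haR) π = π := Subtype.ext (ThreeCop.conj_center hπZ a)
  have hprod : conjHom a (hRN haR) π = (⟨z, hzA⟩ : A) ^ Fintype.card (K ⧸ W.subgroupOf K) * π := by
    rw [hπ, map_prod, Finset.prod_congr rfl (g := fun q => (⟨z, hzA⟩ : A) * f (τ q)) fun q _ => ?_,
      Finset.prod_mul_distrib, Finset.prod_const, Finset.card_univ, Equiv.prod_comp τ f]
    induction q using Quotient.inductionOn' with
    | h l =>
      refine Subtype.ext ?_
      show a * ((l : G) * e * (l : G)⁻¹) * a⁻¹ = z * (a * (l : G) * a⁻¹ * e * (a * (l : G) * a⁻¹)⁻¹)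
      set b := a * (l : G) * a⁻¹ with hb
      calc a * ((l : G) * e * (l : G)⁻¹) * a⁻¹ = b * (a * e * a⁻¹) * b⁻¹ := by rw [hb]; group
        _ = b * (z * e) * b⁻¹ := by rw [hz]; group
        _ = z * (b * e * b⁻¹) := by
          rw [show b * (z * e) = z * (b * e) by
            rw [← mul_assoc, mem_center_iff.1 hzZ b, mul_assoc]]; group
  rw [hfix, right_eq_mul] at hprod
  have hcardq : Fintype.card (K ⧸ W.subgroupOf K) = W.relIndex K := by
    rw [← Nat.card_eq_fintype_card]; rfl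
  have hnd : ¬ r ∣ W.relIndex K := by
    obtain ⟨S, hS⟩ := exists_full' r K
    exact fun hd => not_dvd_relIndex hS (hd.trans (relIndex_dvd_of_le_left K fun y hy =>
      hKr y (hS.le hy) (isQ_of_mem hS.pg hy)))
  have hz1 : z = 1 := (isQ_of_mem hA.pg hzA).eq_one_of_pow
    (by have := congrArg Subtype.val hprod; simpa using this) (by rw [hcardq]; exact hnd)
  refine haW (heC ▸ mem_cent.2 ?_)
  exact mul_inv_eq_iff_eq_mul.1 (mul_inv_eq_one.1 (hz.symm.trans hz1))

include h in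
/-- An element of the normalizer of `W` which squares into `W` inverts the abelian part modulo the
center; hence it is unique modulo `W`. -/
theorem Hyp.invol_unique {k : ℕ} (hk : k.Prime) (hkp : k ≠ p) {c : G} (hc : IsQ k c)
    (hcZ : c ∉ center G) {i j : G} (hi : i ∈ normalizer (centralizer ({c} : Set G) : Set G))
    (hj : j ∈ normalizer (centralizer ({c} : Set G) : Set G)) (hi1 : i ∉ centralizer ({c} : Set G))
    (hj1 : j ∉ centralizer ({c} : Set G)) (hi2 : i * i ∈ centralizer ({c} : Set G))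
    (hj2 : j * j ∈ centralizer ({c} : Set G)) : j * i ∈ centralizer ({c} : Set G) := by
  set W := centralizer ({c} : Set G) with hW
  by_contra hg
  -- both invert modulo the center
  have hinv : ∀ i : G, i ∈ normalizer (W : Set G) → i ∉ W → i * i ∈ W → ∀ q : ℕ, q.Prime → q ≠ p →
      ∀ a : G, IsQ q a → a ∈ W → a * (i * a * i⁻¹) ∈ center G := by
    intro i hi hi1 hi2 q hq hqp a ha haW
    haveI := Fact.mk hq
    have ha' : i * a * i⁻¹ ∈ W := (mem_normalizer_iff.1 hi a).1 haW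
    have hcom : Commute a (i * a * i⁻¹) :=
      (mem_cent.1 (h.cent_le hk hkp hq hqp hc ha hcZ haW ha')).symm
    have hb : IsQ q (a * (i * a * i⁻¹)) := by
      obtain ⟨u, hu⟩ := ha
      exact ⟨u, by rw [hcom.mul_pow, conj_pow, hu, one_mul, mul_one, mul_inv_cancel]⟩
    by_contra hbZ
    refine hi1 ?_
    rw [hW, ← h.cent_eq hk hkp hq hqp hc hb hcZ hbZ (W.mul_mem haW ha')]
    refine mem_cent.2 (mul_inv_eq_iff_eq_mul.1 ?_)
    have h2 : i * (i * a * i⁻¹) * i⁻¹ = a := by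
      have h3 := mem_cent.1 (h.cent_le hk hkp hq hqp hc ha hcZ haW hi2)
      calc i * (i * a * i⁻¹) * i⁻¹ = i * i * a * (i * i)⁻¹ := by group
        _ = a := by rw [h3.eq, mul_inv_cancel_right]
    calc i * (a * (i * a * i⁻¹)) * i⁻¹ = (i * a * i⁻¹) * (i * (i * a * i⁻¹) * i⁻¹) := by group
      _ = a * (i * a * i⁻¹) := by rw [h2]; exact hcom.eq.symm
  have hgN : j * i ∈ normalizer (W : Set G) := mul_mem hj hi
  set g := j * i with hgdef
  have hfixa : ∀ q : ℕ, q.Prime → q ≠ p → ∀ a : G, IsQ q a → a ∈ W →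
      g * a * g⁻¹ * a⁻¹ ∈ center G := by
    intro q hq hqp a ha haW
    haveI := Fact.mk hq
    have h1 := hinv i hi hi1 hi2 q hq hqp a ha haW
    have h2 := hinv j hj hj1 hj2 q hq hqp (i * a * i⁻¹) (ha.conj i) ((mem_normalizer_iff.1 hi a).1 haW)
    have e : g * a * g⁻¹ * a⁻¹ = (i * a * i⁻¹)⁻¹ * ((i * a * i⁻¹) * (j * (i * a * i⁻¹) * j⁻¹)) *
        a⁻¹ := by
      rw [hgdef]; group
    rw [e, mem_center_iff.1 h2 (i * a * i⁻¹)⁻¹, mul_assoc, ← mul_inv_rev]
    exact mul_mem h2 (inv_mem h1)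
  -- a power of prime order modulo `W`
  obtain ⟨t, ht, g', hg', hg'W, hg't⟩ : ∃ t : ℕ, t.Prime ∧ ∃ g' ∈ zpowers g, g' ∉ W ∧ g' ^ t ∈ W := by
    have hex : ∃ d : ℕ, 0 < d ∧ g ^ d ∈ W := ⟨orderOf g, orderOf_pos g, by rw [pow_orderOf_eq_one]; exact W.one_mem⟩
    classical
    obtain ⟨hd0, hdW⟩ := Nat.find_spec hex
    have hd1 : Nat.find hex ≠ 1 := fun e => hg (by rwa [e, pow_one] at hdW)
    have ht := Nat.minFac_prime hd1
    obtain ⟨m, hm⟩ := (Nat.find hex).minFac_dvd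
    refine ⟨_, ht, g ^ m, pow_mem (mem_zpowers g) m, fun hmW => ?_, ?_⟩
    · have hm0 : 0 < m := Nat.pos_of_ne_zero fun e => by rw [e, mul_zero] at hm; omega
      have := Nat.find_min' hex ⟨hm0, hmW⟩
      rw [hm] at this
      nlinarith [ht.two_le]
    · rw [← pow_mul, mul_comm, ← hm]; exact hdW
  obtain ⟨q, hq, hqp, hqt, hex⟩ := h.two t
  haveI := Fact.mk hq
  obtain ⟨a, ha, haZ, haeq⟩ := h.exists_elem hk hkp hq hqp hex hc hcZ
  have haW : a ∈ W := by exact (show a ∈ centralizer ({c} : Set G) from haeq ▸ self_mem_cent a)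
  obtain ⟨d, hd⟩ : ∃ d, d = g' * a * g'⁻¹ * a⁻¹ := ⟨_, rfl⟩
  have hdZ : d ∈ center G := by
    obtain ⟨j, rfl⟩ := mem_zpowers_iff.1 hg'
    set π := QuotientGroup.mk' (center G)
    have hπ : Commute (π g) (π a) := by
      have h1 : π (g * a * g⁻¹ * a⁻¹) = 1 := (QuotientGroup.eq_one_iff _).2 (hfixa q hq hqp a ha haW)
      rw [map_mul, map_mul, map_mul, map_inv, map_inv, mul_inv_eq_one] at h1
      exact mul_inv_eq_iff_eq_mul.1 h1
    rw [hd]
    refine (QuotientGroup.eq_one_iff _).1 (show π (g ^ j * a * (g ^ j)⁻¹ * a⁻¹) = 1 from ?_)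
    rw [map_mul, map_mul, map_mul, map_inv, map_inv, map_zpow, (hπ.zpow_left j).eq, mul_inv_cancel_right,
      mul_inv_cancel]
  have hde : g' * a * g'⁻¹ = d * a := by rw [hd]; group
  have hdq : IsQ q d := by
    obtain ⟨u, hu⟩ := ha
    refine ⟨u, ?_⟩
    have h1 : (d * a) ^ q ^ u = 1 := by rw [← hde, conj_pow, hu, mul_one, mul_inv_cancel]
    rwa [(commute_center hdZ a).symm.mul_pow, hu, mul_one] at h1
  have hpow := ThreeCop.conj_pow_center hdZ hde t
  rw [(mem_cent.1 (h.cent_le hk hkp hq hqp hc ha hcZ haW hg't)).eq, mul_inv_cancel_right,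
    right_eq_mul] at hpow
  have hd1 : d = 1 := hdq.eq_one_of_pow hpow
    fun hdd => hqt ((Nat.prime_dvd_prime_iff_eq hq ht).1 hdd)
  rw [hd1, one_mul] at hde
  refine hg'W ?_
  rw [hW, ← haeq]
  exact mem_cent.2 (mul_inv_eq_iff_eq_mul.1 hde)

include h in
/-- At most one prime other than `p` divides `n`. -/
theorem Hyp.prime_eq {r l : ℕ} (hr : r.Prime) (hl : l.Prime) (hrp : r ≠ p) (hlp : l ≠ p)
    (hrn : r ∣ n) (hln : l ∣ n) : r = l := by
  by_contra hrl
  obtain ⟨k, hk, hkp, -, c, hc, hcZ⟩ := h.two 0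
  set W := centralizer ({c} : Set G) with hW
  set N := normalizer (W : Set G) with hN
  have hWN : W ≤ N := le_normalizer
  haveI : (W.subgroupOf N).Normal := (normal_subgroupOf_iff_le_normalizer hWN).2 le_rfl
  set π := QuotientGroup.mk' (W.subgroupOf N) with hπ
  have hπW : ∀ y : N, π y = 1 ↔ (y : G) ∈ W := fun y => QuotientGroup.eq_one_iff y
  have hwit : ∀ s : ℕ, s.Prime → s ≠ p → s ∣ n → ∀ M : Subgroup (N ⧸ W.subgroupOf N), M.Normal →
      M ≠ ⊥ → ∀ t : ℕ, t.Prime → IsPGroup t M → s ≠ t → False := by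
    intro s hs hsp hsn M hM hMb t ht hMt hst
    haveI := Fact.mk hs
    haveI := Fact.mk ht
    obtain ⟨R, hRN⟩ := h.exists_sylow hsp hsn hk hkp hc hcZ
    refine h.false_of_overgroup hsp hsn hk hkp hc hcZ R hRN (K := (M.comap π).map N.subtype) ?_
      (map_subtype_le _) ?_ ?_ ?_
    · intro w hw
      exact ⟨⟨w, hWN hw⟩, by
        show π _ ∈ M
        rw [(hπW ⟨w, hWN hw⟩).2 hw]; exact M.one_mem, rfl⟩
    · intro hle
      refine hMb ((eq_bot_iff_forall _).2 fun x hx => ?_)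
      obtain ⟨y, rfl⟩ := QuotientGroup.mk'_surjective _ x
      exact (hπW y).2 (hle ⟨y, hx, rfl⟩)
    · rintro a ha _ ⟨y, hy, rfl⟩
      refine ⟨⟨a, hRN ha⟩ * y * ⟨a, hRN ha⟩⁻¹, ?_, rfl⟩
      show π _ ∈ M
      rw [map_mul, map_mul, map_inv]
      exact hM.conj_mem _ hy _
    · rintro _ ⟨y, hy, rfl⟩ hyq
      refine (hπW y).1 ?_
      obtain ⟨u, hu⟩ := hyq
      have h1 : IsQ s (π y) := ⟨u, by
        rw [← map_pow, show y ^ s ^ u = 1 from Subtype.ext hu, map_one]⟩
      exact h1.eq_one ((isQ_of_mem hMt hy).not_dvd_of_ne hs hst)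
  by_cases heven : 2 ∣ Nat.card (N ⧸ W.subgroupOf N)
  · obtain ⟨i, hi⟩ := exists_prime_orderOf_dvd_card' 2 heven
    haveI : Fact (Nat.Prime 2) := ⟨Nat.prime_two⟩
    have hii : i * i = 1 := by rw [← pow_two, ← hi, pow_orderOf_eq_one]
    have hi1 : i ≠ 1 := fun e => by rw [e, orderOf_one] at hi; omega
    have hcent : ∀ g : N ⧸ W.subgroupOf N, g * i * g⁻¹ = i := by
      intro g
      by_contra hne
      obtain ⟨a, rfl⟩ := QuotientGroup.mk'_surjective _ i
      obtain ⟨b, rfl⟩ := QuotientGroup.mk'_surjective _ g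
      have hb1 : π (b * a * b⁻¹) ≠ 1 := by
        rw [map_mul, map_mul, map_inv]
        intro e
        rw [mul_inv_eq_one, mul_eq_left] at e
        exact hi1 e
      have hbb : π (b * a * b⁻¹ * (b * a * b⁻¹)) = 1 := by
        rw [map_mul, map_mul, map_mul, map_inv]
        calc π b * π a * (π b)⁻¹ * (π b * π a * (π b)⁻¹) = π b * (π a * π a) * (π b)⁻¹ := by group
          _ = 1 := by rw [hii, mul_one, mul_inv_cancel]
      have h1 := h.invol_unique hk hkp hc hcZ (i := (a : G)) (j := ((b * a * b⁻¹ : N) : G)) a.2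
        (b * a * b⁻¹).2 (fun e => hi1 ((hπW a).2 e)) (fun e => hb1 ((hπW _).2 e))
        ((hπW (a * a)).1 (by rw [map_mul]; exact hii)) ((hπW _).1 hbb)
      have h2 : π (b * a * b⁻¹ * a) = 1 := (hπW _).2 h1
      rw [map_mul, map_mul, map_mul, map_inv] at h2
      exact hne ((eq_inv_of_mul_eq_one_left h2).trans (eq_inv_of_mul_eq_one_left hii).symm)
    have hMn : (zpowers i).Normal := ⟨fun x hx g => by
      obtain ⟨j, rfl⟩ := hx
      refine ⟨j, ?_⟩
      show i ^ j = g * i ^ j * g⁻¹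
      rw [← conj_zpow, hcent g]⟩
    have hMp : IsPGroup 2 (zpowers i) := IsPGroup.of_card (n := 1) (by rw [Nat.card_zpowers, hi, pow_one])
    have hMb : zpowers i ≠ ⊥ := fun e => hi1 (zpowers_eq_bot.1 e)
    by_cases hr2 : r = 2
    · exact hwit l hl hlp hln _ hMn hMb 2 Nat.prime_two hMp (fun e => hrl (hr2.trans e.symm))
    · exact hwit r hr hrp hrn _ hMn hMb 2 Nat.prime_two hMp hr2
  · haveI hsol : Group.IsSolvable (N ⧸ W.subgroupOf N) :=
      FT.isSolvable_of_odd _ (Nat.odd_iff.2 (by omega))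
    have htop : (⊤ : Subgroup (N ⧸ W.subgroupOf N)) ≠ ⊥ := by
      haveI := Fact.mk hr
      intro e
      obtain ⟨R, hRN⟩ := h.exists_sylow hrp hrn hk hkp hc hcZ
      refine R.not_dvd_index ((hrn.trans (h.idx hk hkp hc hcZ).symm.dvd).trans (index_dvd_of_le fun a ha => ?_))
      refine (hπW ⟨a, hRN ha⟩).1 ((eq_bot_iff_forall _).1 e _ (mem_top _))
    obtain ⟨M, hMn, hMb, -, hmin⟩ := Coprime.exists_minimal_normal_le htop
    haveI := hMn
    haveI : Group.IsSolvable M := inferInstance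
    obtain ⟨-, t, ht, hexp⟩ := Coprime.minimal_normal_solvable hMb hmin
    have hMt : IsPGroup t M := fun x => ⟨1, Subtype.ext (by simpa using hexp x.1 x.2)⟩
    by_cases hrt : r = t
    · exact hwit l hl hlp hln M hMn hMb t ht hMt (fun e => hrl (hrt.trans e.symm))
    · exact hwit r hr hrp hrn M hMn hMb t ht hMt hrt

end CfsgLib.TwoRegular
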